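import Groth.Agent.ArtFunLib.Hull
import Groth.Agent.PSSmoothLib.Basic

/-!
# The T¹-lifting criterion

For a versal family over `R = k[[X]]/J` with `J ⊆ m²`, the lifting of first-order data along surjections of
split square-zero extensions forces `J = 0` in characteristic zero.
-/

set_option autoImplicit false
set_option linter.unusedSectionVars false

universe u v

open CategoryTheory ArtFun ArtFun.Art IsLocalRing TrivSqZeroExt

namespace Groth.Agent.T1LiftLib

open Groth.Agent.ArtFunLib Groth.Agent.PSSmoothLib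

variable {k : Type u} [Field k]

section SqZero

variable (A : Art k k) (M : Type u) [AddCommGroup M] [Module A M] [Module (A : Type u)ᵐᵒᵖ M] [IsCentralScalar A M]
  [Module k M] [IsScalarTower k A M] [IsScalarTower k (A : Type u)ᵐᵒᵖ M] [Module.Finite A M]

theorem isLocalRing_sqz : IsLocalRing (TrivSqZeroExt A M) :=
  IsLocalRing.of_nonunits_add fun a b ha hb => by
    simp only [mem_nonunits_iff, TrivSqZeroExt.isUnit_iff_isUnit_fst, fst_add] at *
    exact IsLocalRing.nonunits_add ha hb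

theorem isArtinianRing_sqz : IsArtinianRing (TrivSqZeroExt A M) :=
  haveI : Module.Finite A (TrivSqZeroExt A M) := inferInstanceAs (Module.Finite A (A × M))
  IsArtinianRing.of_finite A _

/-- `A ⊕ M`. -/
noncomputable def sqz : Art k k :=
  { carrier := TrivSqZeroExt A M
    isLocalRing := isLocalRing_sqz A M
    isArtinianRing := isArtinianRing_sqz A M
    res := A.res.comp (TrivSqZeroExt.fstHom k A M)
    res_surjective := fun c => by
      obtain ⟨a, ha⟩ := A.res_surjective c
      exact ⟨(inl a : TrivSqZeroExt A M), ha⟩ }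

/-- The retraction. -/
noncomputable def sqzProj : sqz A M ⟶ A := ⟨TrivSqZeroExt.fstHom k A M, rfl⟩

/-- The section. -/
noncomputable def sqzIncl : A ⟶ sqz A M := ⟨TrivSqZeroExt.inlAlgHom k A M, rfl⟩

theorem sqzIncl_proj : sqzIncl A M ≫ sqzProj A M = 𝟙 A := Art.hom_ext (AlgHom.ext fun _ => rfl)

theorem ker_sqzProj_sq : RingHom.ker (sqzProj A M).toAlgHom * RingHom.ker (sqzProj A M).toAlgHom = ⊥ := by
  rw [eq_bot_iff, Ideal.mul_le]
  intro r hr s hs
  change TrivSqZeroExt A M at r
  change TrivSqZeroExt A M at s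
  have hr' : r.fst = 0 := hr
  have hs' : s.fst = 0 := hs
  change r * s = 0
  exact TrivSqZeroExt.ext (by rw [fst_mul, hr', zero_mul, fst_zero])
    (by rw [snd_mul, hr', hs', MulOpposite.op_zero, zero_smul, zero_smul, add_zero, snd_zero])

variable {M} {N : Type u} [AddCommGroup N] [Module A N] [Module (A : Type u)ᵐᵒᵖ N] [IsCentralScalar A N]
  [Module k N] [IsScalarTower k A N] [IsScalarTower k (A : Type u)ᵐᵒᵖ N] [Module.Finite A N]

/-- Functoriality, as an algebra map. -/
noncomputable def mapAlg (f : M →ₗ[A] N) : TrivSqZeroExt A M →ₐ[k] TrivSqZeroExt A N where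
  toFun x := inl x.fst + inr (f x.snd)
  map_one' := TrivSqZeroExt.ext (by simp) (by simp)
  map_mul' x y := TrivSqZeroExt.ext (by simp) (by simp)
  map_zero' := TrivSqZeroExt.ext (by simp) (by simp)
  map_add' x y := TrivSqZeroExt.ext (by simp) (by simp)
  commutes' c := TrivSqZeroExt.ext (by simp [TrivSqZeroExt.algebraMap_eq_inl'])
    (by simp [TrivSqZeroExt.algebraMap_eq_inl'])

/-- Functoriality. -/
noncomputable def sqzMap (f : M →ₗ[A] N) : sqz A M ⟶ sqz A N :=
  ⟨mapAlg A f,
   AlgHom.ext fun x => congrArg A.res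
    (show (inl (TrivSqZeroExt.fst (x : TrivSqZeroExt A M)) + inr (f (TrivSqZeroExt.snd (x : TrivSqZeroExt A M))) :
      TrivSqZeroExt A N).fst = TrivSqZeroExt.fst (x : TrivSqZeroExt A M) by simp)⟩

theorem sqzMap_apply (f : M →ₗ[A] N) (x : TrivSqZeroExt A M) :
    (sqzMap A f : sqz A M → sqz A N) x = (inl x.fst + inr (f x.snd) : TrivSqZeroExt A N) := rfl

theorem sqzMap_proj (f : M →ₗ[A] N) : sqzMap A f ≫ sqzProj A N = sqzProj A M :=
  Art.hom_ext (AlgHom.ext fun x => show (inl (TrivSqZeroExt.fst (x : TrivSqZeroExt A M)) +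
    inr (f (TrivSqZeroExt.snd (x : TrivSqZeroExt A M))) : TrivSqZeroExt A N).fst = _ by simp; rfl)

theorem sqzIncl_map (f : M →ₗ[A] N) : sqzIncl A M ≫ sqzMap A f = sqzIncl A N :=
  Art.hom_ext (AlgHom.ext fun a => TrivSqZeroExt.ext (show (inl a + inr (f 0) : TrivSqZeroExt A N).fst = a by simp)
    (show (inl a + inr (f 0) : TrivSqZeroExt A N).snd = 0 by simp))

theorem sqzMap_surjective (f : M →ₗ[A] N) (hf : Function.Surjective f) : Function.Surjective (sqzMap A f) := fun y => by
  obtain ⟨m, hm⟩ := hf (TrivSqZeroExt.snd (y : TrivSqZeroExt A N))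
  refine ⟨((TrivSqZeroExt.fst (y : TrivSqZeroExt A N), m) : TrivSqZeroExt A M), ?_⟩
  refine TrivSqZeroExt.ext ?_ ?_
  · change (inl (TrivSqZeroExt.fst (y : TrivSqZeroExt A N)) + inr (f m) : TrivSqZeroExt A N).fst = _
    simp
  · change (inl (TrivSqZeroExt.fst (y : TrivSqZeroExt A N)) + inr (f m) : TrivSqZeroExt A N).snd = _
    simp [hm]

end SqZero

local notation "P[" n "]" => MvPowerSeries (Fin n) k

variable {n : ℕ}

theorem orderIdeal_two_le : orderIdeal (k := k) (n := n) 2 ≤
    maximalIdeal P[n] * maximalIdeal P[n] := by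
  intro f hf
  have hf0 : MvPowerSeries.constantCoeff f = 0 := by
    rw [← MvPowerSeries.coeff_zero_eq_constantCoeff_apply, MvPowerSeries.coeff_of_lt_order]
    exact lt_of_lt_of_le (by simp) hf
  have hm : f ∈ maximalIdeal P[n] := fun hu => by
    have := MvPowerSeries.isUnit_iff_constantCoeff.mp hu
    rw [hf0] at this
    exact not_isUnit_zero this
  rw [maximalIdeal_eq_span, Ideal.mem_span_range_iff_exists_fun] at hm
  obtain ⟨c, hc⟩ := hm
  rw [← hc]
  refine sum_mem fun i _ => Ideal.mul_mem_mul ?_ ?_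
  · intro hu
    have h0 := MvPowerSeries.isUnit_iff_constantCoeff.mp hu
    refine (isUnit_iff_ne_zero.mp h0) ?_
    have h1 : MvPowerSeries.constantCoeff (MvPowerSeries.pderiv k i f) = 0 := by
      rw [← MvPowerSeries.coeff_zero_eq_constantCoeff_apply, MvPowerSeries.coeff_of_lt_order]
      exact lt_of_lt_of_le (by simp) (pderiv_mem_orderIdeal (d := 1) hf i)
    rw [← hc, map_sum, map_sum, Finset.sum_eq_single i] at h1
    · simpa [MvPowerSeries.pderiv_X_self] using h1
    · intro j _ hj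
      simp [MvPowerSeries.pderiv_X_of_ne hj]
    · simp
  · rw [maximalIdeal_eq_span]
    exact Ideal.subset_span ⟨i, rfl⟩

variable [CharZero k]

/-- The inductive step, with the truncation given. -/
theorem order_step_core {F : ArtFun.Art k k ⥤ Type v}
    (hT1 : ∀ ⦃A A' A'' : ArtFun.Art k k⦄ (π' : A' ⟶ A) (i' : A ⟶ A') (π'' : A'' ⟶ A) (i'' : A ⟶ A'')
        (q : A'' ⟶ A'), i' ≫ π' = 𝟙 A → i'' ≫ π'' = 𝟙 A →
        RingHom.ker π'.toAlgHom * RingHom.ker π'.toAlgHom = ⊥ →
        RingHom.ker π''.toAlgHom * RingHom.ker π''.toAlgHom = ⊥ →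
        q ≫ π' = π'' → i'' ≫ q = i' → Function.Surjective q → Function.Surjective (F.map q))
    (R : ArtFun.CRing k k) (ξ : ArtFun.Family R.carrier R.res F) (hξ : ArtFun.IsVersal ξ)
    (g : P[n] →ₐ[k] R.carrier) (hg : Function.Surjective g) {N : ℕ} (hN : 2 ≤ N)
    (hJ : RingHom.ker g ≤ orderIdeal N) (A : Art k k) (Q : P[n] →ₐ[k] A) (hQ : Function.Surjective Q)
    (hQ0 : ∀ p, Q p = 0 ↔ p ∈ orderIdeal N) (hQres : ∀ p, A.res (Q p) = R.res (g p)) :
    RingHom.ker g ≤ orderIdeal (N + 1) := by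
  classical
  intro f hfJ
  let r0 : P[n] →ₐ[k] k := R.res.comp g
  -- descent of maps killing the relations
  let eR := Ideal.quotientKerAlgEquivOfSurjective hg
  have desc : ∀ (B : Art k k) (h : P[n] →ₐ[k] B), (∀ p, g p = 0 → h p = 0) → (∀ p, B.res (h p) = r0 p) →
      ∃ φ : HomSet R.carrier R.res B, ∀ p, φ.1 (g p) = h p := by
    intro B h hh hres
    let d : R.carrier →ₐ[k] B := (Ideal.Quotient.liftₐ (RingHom.ker g) h fun p hp => hh p hp).comp eR.symm.toAlgHom
    have hd : ∀ p, d (g p) = h p := fun p => by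
      change Ideal.Quotient.liftₐ (RingHom.ker g) h (fun p hp => hh p hp) (eR.symm (g p)) = h p
      rw [show eR.symm (g p) = Ideal.Quotient.mk _ p from eR.symm_apply_eq.mpr rfl]
      rfl
    refine ⟨⟨d, AlgHom.ext fun r => ?_⟩, hd⟩
    obtain ⟨p, rfl⟩ := hg r
    change B.res (d (g p)) = R.res (g p)
    rw [hd, hres]; rfl
  -- the two modules
  let e : Fin n → (Fin n → A) := fun i => Pi.single i 1
  let Rel : Submodule A (Fin n → A) :=
    Submodule.span A (Set.range fun p : RingHom.ker g => fun i => Q (MvPowerSeries.pderiv k i p.1))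
  let M' := (Fin n → A) ⧸ Rel
  let q := sqzMap A (M := Fin n → A) (N := M') Rel.mkQ
  have hsum : ∀ c : Fin n → A, ∑ i, c i • e i = c := fun c => by
    funext j
    simp [e, Finset.sum_apply, Pi.single_apply]
  let χ0 : P[n] →ₐ[k] sqz A (Fin n → A) := derHom (A := A) Q e
  obtain ⟨φ', hφ'⟩ := desc (sqz A M') (q.toAlgHom.comp χ0) (fun p hp => by
      change (inl (derHom (A := A) Q e p).fst + inr (Rel.mkQ (derHom (A := A) Q e p).snd) : TrivSqZeroExt A M') = 0
      rw [fst_derHom, snd_derHom, hsum, show Q p = 0 from (hQ0 p).mpr (hJ hp),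
        show Rel.mkQ (fun i => Q (MvPowerSeries.pderiv k i p)) = 0 from
          (Submodule.Quotient.mk_eq_zero Rel).mpr (Submodule.subset_span ⟨⟨p, hp⟩, rfl⟩)]
      simp)
    (fun p => (Art.res_app q _).trans ((congrArg A.res (fst_derHom (A := A) Q e p)).trans (hQres p)))
  obtain ⟨η, hη⟩ := hT1 (sqzProj A M') (sqzIncl A M') (sqzProj A (Fin n → A)) (sqzIncl A (Fin n → A)) q
    (sqzIncl_proj A M') (sqzIncl_proj A _) (ker_sqzProj_sq A M') (ker_sqzProj_sq A _) (sqzMap_proj A _)
    (sqzIncl_map A _) (sqzMap_surjective A _ Rel.mkQ_surjective) (ξ.app _ φ')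
  obtain ⟨ψ, hψ, -⟩ := hξ q (sqzMap_surjective A _ Rel.mkQ_surjective) φ' η hη
  let χ1 : P[n] →ₐ[k] TrivSqZeroExt A (Fin n → A) := ψ.1.comp g
  have hq1 : ∀ p, (inl (TrivSqZeroExt.fst (χ1 p : TrivSqZeroExt A (Fin n → A))) +
      inr (Rel.mkQ (TrivSqZeroExt.snd (χ1 p : TrivSqZeroExt A (Fin n → A)))) : TrivSqZeroExt A M') =
      inl (Q p) + inr (Rel.mkQ fun i => Q (MvPowerSeries.pderiv k i p)) := fun p => by
    have h := congrArg (fun φ : HomSet R.carrier R.res (sqz A M') => φ.1 (g p)) hψ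
    have h2 : q (χ1 p) = q (χ0 p) := h.trans (hφ' p)
    refine h2.trans ?_
    change (inl (derHom (A := A) Q e p).fst + inr (Rel.mkQ (derHom (A := A) Q e p).snd) : TrivSqZeroExt A M') = _
    rw [fst_derHom, snd_derHom, hsum]
  have hfst : ∀ p, TrivSqZeroExt.fst (χ1 p : TrivSqZeroExt A (Fin n → A)) = Q p := fun p => by
    simpa using congrArg TrivSqZeroExt.fst (hq1 p)
  have hrel : ∀ p, TrivSqZeroExt.snd (χ1 p : TrivSqZeroExt A (Fin n → A)) -
      (fun i => Q (MvPowerSeries.pderiv k i p)) ∈ Rel := fun p => by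
    have h := congrArg TrivSqZeroExt.snd (hq1 p)
    simp only [snd_add, snd_inl, snd_inr, zero_add] at h
    exact (Submodule.Quotient.eq Rel).mp h
  have hW : ∀ x ∈ Rel, ∀ i, x i ∈ (orderIdeal (N - 1)).map Q := by
    intro x hx i
    induction hx using Submodule.span_induction with
    | mem y hy =>
      obtain ⟨⟨p, hp⟩, rfl⟩ := hy
      exact Ideal.mem_map_of_mem _ (pderiv_mem_orderIdeal
        (show p ∈ orderIdeal (N - 1 + 1) from (show N - 1 + 1 = N by omega).symm ▸ hJ hp) i)
    | zero => exact zero_mem _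
    | add a b _ _ ha hb => exact add_mem ha hb
    | smul c a _ ha => exact Ideal.mul_mem_left _ c ha
  have hkill : ∀ u ∈ maximalIdeal P[n], ∀ a ∈ (orderIdeal (N - 1)).map Q, Q u * a = 0 := by
    intro u hu a ha
    obtain ⟨w, hw, rfl⟩ := (Ideal.mem_map_iff_of_surjective _ hQ).mp ha
    rw [← map_mul]
    refine (hQ0 _).mpr ?_
    have := orderIdeal_mul (k := k) (n := n) 1 (N - 1) (Ideal.mul_mem_mul (show u ∈ orderIdeal 1 from one_le_order hu) hw)
    rwa [show 1 + (N - 1) = N by omega] at this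
  have hD : ∀ p, p ∈ maximalIdeal P[n] * maximalIdeal P[n] →
      TrivSqZeroExt.snd (χ1 p : TrivSqZeroExt A (Fin n → A)) = fun i => Q (MvPowerSeries.pderiv k i p) := by
    intro p hp
    induction hp using Submodule.mul_induction_on' with
    | mem_mul_mem a ha b hb =>
      funext i
      have h1 := hW _ (hrel a) i
      have h2 := hW _ (hrel b) i
      have hm : (χ1 (a * b) : TrivSqZeroExt A (Fin n → A)) = (χ1 a : TrivSqZeroExt A (Fin n → A)) * χ1 b :=
        map_mul χ1 a b
      rw [hm, TrivSqZeroExt.snd_mul, hfst, hfst, op_smul_eq_smul]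
      rw [Derivation.leibniz, smul_eq_mul, smul_eq_mul, map_add, map_mul, map_mul]
      simp only [Pi.add_apply, Pi.smul_apply, smul_eq_mul, Pi.sub_apply] at h1 h2 ⊢
      linear_combination hkill a ha _ h2 + hkill b hb _ h1
    | add a _ b _ ha hb =>
      have hm : (χ1 (a + b) : TrivSqZeroExt A (Fin n → A)) = (χ1 a : TrivSqZeroExt A (Fin n → A)) + χ1 b :=
        map_add χ1 a b
      rw [hm, snd_add, ha, hb]
      funext i
      simp
  have hf2 : f ∈ maximalIdeal P[n] * maximalIdeal P[n] :=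
    orderIdeal_two_le ((show ((2 : ℕ) : ℕ∞) ≤ N by exact_mod_cast hN).trans (hJ hfJ))
  have h0 : (χ1 f : TrivSqZeroExt A (Fin n → A)) = 0 := by
    change ψ.1 (g f) = 0
    rw [show g f = 0 from hfJ, map_zero]
  have hd : ∀ i, MvPowerSeries.pderiv k i f ∈ orderIdeal N := fun i => by
    refine (hQ0 _).mp ?_
    exact ((congrFun (hD f hf2) i).symm.trans (by rw [h0]; rfl) : Q (MvPowerSeries.pderiv k i f) = 0)
  refine mem_orderIdeal_of_pderiv ?_ hd
  rw [← MvPowerSeries.coeff_zero_eq_constantCoeff_apply, MvPowerSeries.coeff_of_lt_order]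
  exact lt_of_lt_of_le (by rw [map_zero]; exact_mod_cast (show (0:ℕ) < N by omega)) (hJ hfJ)

/-- The inductive step: relations of order `≥ N` have order `≥ N + 1`. -/
theorem order_step {F : ArtFun.Art k k ⥤ Type v}
    (hT1 : ∀ ⦃A A' A'' : ArtFun.Art k k⦄ (π' : A' ⟶ A) (i' : A ⟶ A') (π'' : A'' ⟶ A) (i'' : A ⟶ A'')
        (q : A'' ⟶ A'), i' ≫ π' = 𝟙 A → i'' ≫ π'' = 𝟙 A →
        RingHom.ker π'.toAlgHom * RingHom.ker π'.toAlgHom = ⊥ →
        RingHom.ker π''.toAlgHom * RingHom.ker π''.toAlgHom = ⊥ →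
        q ≫ π' = π'' → i'' ≫ q = i' → Function.Surjective q → Function.Surjective (F.map q))
    (R : ArtFun.CRing k k) (ξ : ArtFun.Family R.carrier R.res F) (hξ : ArtFun.IsVersal ξ)
    (g : P[n] →ₐ[k] R.carrier) (hg : Function.Surjective g) {N : ℕ} (hN : 2 ≤ N)
    (hJ : RingHom.ker g ≤ orderIdeal N) : RingHom.ker g ≤ orderIdeal (N + 1) := by
  classical
  -- the truncation
  let O : Ideal P[n] := orderIdeal N
  have hO1 : O ≤ maximalIdeal P[n] := fun p hp hu => by
    have h0 := MvPowerSeries.isUnit_iff_constantCoeff.mp hu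
    refine (isUnit_iff_ne_zero.mp h0) ?_
    rw [← MvPowerSeries.coeff_zero_eq_constantCoeff_apply, MvPowerSeries.coeff_of_lt_order]
    exact lt_of_lt_of_le (by rw [map_zero]; exact_mod_cast (show (0:ℕ) < N by omega)) hp
  let r0 : P[n] →ₐ[k] k := R.res.comp g
  have hr0 : ∀ p ∈ maximalIdeal P[n], r0 p = 0 := by
    intro p hp
    rw [maximalIdeal_eq_span] at hp
    refine (Ideal.span_le (I := RingHom.ker r0)).mpr (Set.range_subset_iff.mpr fun i => ?_) hp
    exact apply_X_eq_zero r0 i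
  haveI : Nontrivial (P[n] ⧸ O) := Ideal.Quotient.nontrivial_iff.mpr
    (ne_top_of_le_ne_top (maximalIdeal.isMaximal _).ne_top hO1)
  haveI : IsLocalRing (P[n] ⧸ O) := IsLocalRing.of_surjective' _ Ideal.Quotient.mk_surjective
  haveI : IsArtinianRing (P[n] ⧸ O) := by
    rw [isArtinianRing_iff_isNilpotent_maximalIdeal]
    refine ⟨N, ?_⟩
    have e : maximalIdeal (P[n] ⧸ O) = (maximalIdeal P[n]).map (Ideal.Quotient.mk O) :=
      (IsLocalRing.eq_maximalIdeal ((Ideal.map_eq_top_or_isMaximal_of_surjective (Ideal.Quotient.mk O) Ideal.Quotient.mk_surjective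
        (maximalIdeal.isMaximal _)).resolve_left fun h => by
          have := Ideal.comap_map_of_surjective' _ (Ideal.Quotient.mk_surjective (I := O)) (maximalIdeal P[n])
          rw [h, Ideal.comap_top, Ideal.mk_ker, sup_eq_left.mpr hO1] at this
          exact (maximalIdeal.isMaximal P[n]).ne_top this.symm)).symm
    rw [e, ← Ideal.map_pow, Submodule.zero_eq_bot, Ideal.map_eq_bot_iff_le_ker, Ideal.mk_ker]
    exact pow_le_orderIdeal N
  let Q : P[n] →ₐ[k] P[n] ⧸ O := Ideal.Quotient.mkₐ k O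
  let resA : (P[n] ⧸ O) →ₐ[k] k := Ideal.Quotient.liftₐ O r0 fun p hp => hr0 p (hO1 hp)
  let A : Art k k := Art.of (P[n] ⧸ O) resA fun c => ⟨algebraMap k _ c, resA.commutes c⟩
  exact order_step_core hT1 R ξ hξ g hg hN hJ A Q (Ideal.Quotient.mkₐ_surjective k O)
    (fun _ => Ideal.Quotient.eq_zero_iff_mem) (fun _ => rfl)

/-- The criterion. -/
theorem isSmoothFunctor {F : ArtFun.Art k k ⥤ Type v} (h0 : ArtFun.H0 F)
    (hT1 : ∀ ⦃A A' A'' : ArtFun.Art k k⦄ (π' : A' ⟶ A) (i' : A ⟶ A') (π'' : A'' ⟶ A) (i'' : A ⟶ A'')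
        (q : A'' ⟶ A'), i' ≫ π' = 𝟙 A → i'' ≫ π'' = 𝟙 A →
        RingHom.ker π'.toAlgHom * RingHom.ker π'.toAlgHom = ⊥ →
        RingHom.ker π''.toAlgHom * RingHom.ker π''.toAlgHom = ⊥ →
        q ≫ π' = π'' → i'' ≫ q = i' → Function.Surjective q → Function.Surjective (F.map q))
    (R : ArtFun.CRing k k) (ξ : ArtFun.Family R.carrier R.res F) (hξ : ArtFun.IsVersal ξ) :
    ArtFun.IsSmoothFunctor F := by
  classical
  let b := Module.finBasis (ResidueField R.carrier) (CotangentSpace R.carrier)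
  choose t ht using fun i => Ideal.toCotangent_surjective (maximalIdeal R.carrier) (b i)
  haveI := R.isAdicComplete
  obtain ⟨g, hgX⟩ := ps_exists_lift (Λ := k) (maximalIdeal R.carrier) (fun i => (t i).1) fun i => (t i).2
  have hsurj : Function.Surjective g := by
    let S : ArtFun.CRing k k :=
      { carrier := MvPowerSeries (Fin (Module.finrank (ResidueField R.carrier) (CotangentSpace R.carrier))) k
        res := R.res.comp g
        res_surjective := fun c => ⟨algebraMap k _ c, AlgHom.commutes _ c⟩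
        isAdicComplete := PSSmoothLib.isAdicComplete_maximalIdeal }
    refine surjective_of_cotangent (R := R) (R' := S) g rfl fun x hx => ?_
    have hmem := Submodule.mem_span_range_iff_exists_fun (ResidueField R.carrier) |>.mp
      (b.span_eq.symm ▸ (Submodule.mem_top : (maximalIdeal R.carrier).toCotangent ⟨x, hx⟩ ∈ ⊤))
    obtain ⟨c, hc⟩ := hmem
    choose r hr using fun i => IsLocalRing.residue_surjective (c i)
    have hx2 : (maximalIdeal R.carrier).toCotangent (⟨x, hx⟩ - ∑ i, r i • t i) = 0 := by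
      rw [map_sub, map_sum, ← hc, sub_eq_zero]
      refine Finset.sum_congr rfl fun i _ => ?_
      rw [map_smul, ht, ← hr]
      rfl
    rw [Ideal.toCotangent_eq_zero] at hx2
    have hsplit : x = (∑ i, r i * (t i).1) + (x - ∑ i, r i * (t i).1) := (add_sub_cancel _ _).symm
    rw [hsplit]
    refine add_mem (Ideal.mem_sup_left (Ideal.mem_sup_right ?_)) (Ideal.mem_sup_right (by simpa using hx2))
    refine sum_mem fun i _ => Ideal.mul_mem_left _ _ ?_
    rw [← hgX]
    refine Ideal.mem_map_of_mem _ ?_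
    rw [PSSmoothLib.maximalIdeal_eq_span]
    exact Ideal.subset_span ⟨i, rfl⟩
  have hker0 : ∀ f, g f = 0 → MvPowerSeries.constantCoeff f = 0 := fun f hf => by
    by_contra hne
    have := (MvPowerSeries.isUnit_iff_constantCoeff.mpr (isUnit_iff_ne_zero.mpr hne)).map g
    rw [hf] at this
    exact not_isUnit_zero this
  have h2 : RingHom.ker g ≤ orderIdeal 2 := by
    intro f hf
    have hm : f ∈ maximalIdeal _ := fun hu =>
      (isUnit_iff_ne_zero.mp (MvPowerSeries.isUnit_iff_constantCoeff.mp hu)) (hker0 f hf)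
    rw [PSSmoothLib.maximalIdeal_eq_span, Ideal.mem_span_range_iff_exists_fun] at hm
    obtain ⟨c, hc⟩ := hm
    have hsum : ∑ i, residue R.carrier (g (c i)) • b i = 0 := by
      have : (maximalIdeal R.carrier).toCotangent (∑ i, g (c i) • t i) = 0 := by
        rw [Ideal.toCotangent_eq_zero]
        have e1 : ((∑ i, g (c i) • t i : maximalIdeal R.carrier) : R.carrier) = g f := by
          rw [← hc, map_sum, Submodule.coe_sum]
          simp [hgX]
        rw [e1, hf]
        exact zero_mem _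
      rw [← this, map_sum]
      exact Finset.sum_congr rfl fun i _ => by rw [map_smul, ht]; rfl
    have hc0 := Fintype.linearIndependent_iff.mp b.linearIndependent _ hsum
    refine mem_orderIdeal_of_pderiv (hker0 f hf) fun i => MvPowerSeries.nat_le_order fun d hd => ?_
    obtain rfl : d = 0 := (Finsupp.degree_eq_zero_iff d).mp (by omega)
    rw [MvPowerSeries.coeff_zero_eq_constantCoeff_apply, ← hc, map_sum, map_sum, Finset.sum_eq_single i]
    · have hci : MvPowerSeries.constantCoeff (c i) = 0 := by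
        by_contra hne
        have := (MvPowerSeries.isUnit_iff_constantCoeff.mpr (isUnit_iff_ne_zero.mpr hne)).map g
        exact (IsLocalRing.residue_eq_zero_iff _).mp (hc0 i) this
      simp [hci]
    · intro j _ hj
      simp [MvPowerSeries.pderiv_X_of_ne hj]
    · simp
  have hall : ∀ N, RingHom.ker g ≤ orderIdeal (N + 2) := by
    intro N
    induction N with
    | zero => exact h2
    | succ N ih => exact order_step hT1 R ξ hξ g hsurj (by omega) ih
  have hinj : Function.Injective g := (injective_iff_map_eq_zero g).mpr fun f hf => by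
    rw [← MvPowerSeries.order_eq_top_iff]
    refine ENat.eq_top_iff_forall_ge.mpr fun N => ?_
    exact le_trans (by exact_mod_cast (show N ≤ N + 2 by omega)) (hall N hf)
  let eg : _ ≃ₐ[k] R.carrier := AlgEquiv.ofBijective g ⟨hinj, hsurj⟩
  intro B A μ hμ y
  obtain ⟨φ, hφ⟩ := Mor.app_surjective (Mor.ofFamily ξ) hξ
    (fun z => ⟨(hR_h0 R.res).1.some, @Subsingleton.elim _ h0.2 _ _⟩) A y
  let φ₁ : HomSet R.carrier R.res A := φ
  choose β hβ using fun i => hμ (φ₁.1 (g (MvPowerSeries.X i)))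
  haveI := isAdicComplete_art B
  haveI := isAdicComplete_art A
  have hres : ∀ i, A.res (φ₁.1 (g (MvPowerSeries.X i))) = 0 := fun i => apply_X_eq_zero ((A.res.comp φ₁.1).comp g) i
  have hβm : ∀ i, β i ∈ maximalIdeal B := fun i => by
    rw [Art.mem_maximalIdeal_iff, ← Art.res_app μ, hβ, hres]
  obtain ⟨h, hh⟩ := ps_exists_lift (Λ := k) (maximalIdeal B) β hβm
  have hcomp : μ.toAlgHom.comp h = φ₁.1.comp g := ps_ext (maximalIdeal A)
    (fun i => by
      rw [AlgHom.comp_apply, hh, Art.mem_maximalIdeal_iff, hβ, hres])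
    (fun i => by rw [AlgHom.comp_apply, AlgHom.comp_apply, hh, hβ])
  let ψ : HomSet R.carrier R.res B := ⟨h.comp eg.symm.toAlgHom, AlgHom.ext fun r => by
    change B.res (h (eg.symm r)) = R.res r
    rw [← Art.res_app μ, show μ (h (eg.symm r)) = φ₁.1 (g (eg.symm r)) from DFunLike.congr_fun hcomp _,
      res_homSet, show g (eg.symm r) = r from eg.apply_symm_apply r]⟩
  refine ⟨ξ.app B ψ, ?_⟩
  rw [← ξ.natural, ← hφ]
  refine congrArg (ξ.app A) (HomSet.ext' fun r => ?_)
  change μ (h (eg.symm r)) = φ₁.1 r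
  rw [show μ (h (eg.symm r)) = φ₁.1 (g (eg.symm r)) from DFunLike.congr_fun hcomp _,
    show g (eg.symm r) = r from eg.apply_symm_apply r]

end Groth.Agent.T1LiftLib
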